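import Mathlib.Tactic

/-! Numerics for the largest abelian subgroups of `S_n` (`f`) and `A_n` (`g`). -/

set_option autoImplicit false

namespace Cfsg.Agent.SymN

def f : ℕ → ℕ
  | 0 => 1
  | 1 => 1
  | 2 => 2
  | 3 => 3
  | 4 => 4
  | n + 5 => 3 * f (n + 2)

def g : ℕ → ℕ
  | 0 => 1
  | 1 => 1
  | 2 => 1
  | 3 => 3
  | 4 => 4
  | 5 => 5
  | 6 => 9
  | 7 => 12
  | 8 => 16
  | n + 9 => 3 * g (n + 6)

theorem f_add {n : ℕ} (h : 2 ≤ n) : f (n + 3) = 3 * f n := by
  obtain ⟨k, rfl⟩ := Nat.exists_eq_add_of_le' h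
  rfl

theorem g_add {n : ℕ} (h : 6 ≤ n) : g (n + 3) = 3 * g n := by
  obtain ⟨k, rfl⟩ := Nat.exists_eq_add_of_le' h
  rfl

theorem ind3 {P : ℕ → Prop} (h0 : ∀ n < 9, P n) (hs : ∀ n, 6 ≤ n → P n → P (n + 3)) :
    ∀ n, P n := by
  intro n
  induction n using Nat.strong_induction_on with
  | _ n ih =>
    by_cases h : n < 9
    · exact h0 n h
    · obtain ⟨k, rfl⟩ : ∃ k, n = k + 3 := ⟨n - 3, by omega⟩
      exact hs k (by omega) (ih k (by omega))

theorem f_step (a i : ℕ) (h0 : ∀ n < 9, a * f n ≤ f (n + i)) : ∀ n, a * f n ≤ f (n + i) := by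
  refine ind3 h0 fun n hn ih => ?_
  rw [show n + 3 + i = n + i + 3 by ring, f_add (by omega), f_add (by omega)]
  nlinarith

theorem g_step (a i : ℕ) (h0 : ∀ n < 9, a * g n ≤ g (n + i)) : ∀ n, a * g n ≤ g (n + i) := by
  refine ind3 h0 fun n hn ih => ?_
  rw [show n + 3 + i = n + i + 3 by ring, g_add (by omega), g_add (by omega)]
  nlinarith

theorem g_step' (a i : ℕ) (Q : ℕ → Prop) (hQ : ∀ n, 6 ≤ n → Q (n + 3) → Q n)
    (h0 : ∀ n < 9, Q n → a * g n < g (n + i)) : ∀ n, Q n → a * g n < g (n + i) := by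
  refine ind3 h0 fun n hn ih h => ?_
  rw [show n + 3 + i = n + i + 3 by ring, g_add (by omega), g_add (by omega)]
  have := ih (hQ n hn h)
  nlinarith

theorem g_pos : ∀ n, 0 < g n := by
  refine ind3 (by decide) fun n hn ih => ?_
  rw [g_add hn]; omega

theorem mul_f_le (m : ℕ) : 1 ≤ m → ∀ n, m * f n ≤ f (n + m) := by
  induction m using Nat.strong_induction_on with
  | _ m ih =>
    intro hm n
    by_cases h : m ≤ 4
    · interval_cases m
      · exact f_step 1 1 (by decide) n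
      · exact f_step 2 2 (by decide) n
      · exact f_step 3 3 (by decide) n
      · exact f_step 4 4 (by decide) n
    · obtain ⟨k, rfl⟩ : ∃ k, m = k + 3 := ⟨m - 3, by omega⟩
      have := ih k (by omega) (by omega) n
      rw [← add_assoc, f_add (by omega)]
      have h2 : (k + 3) * f n ≤ 3 * (k * f n) := by
        rw [← mul_assoc]; exact Nat.mul_le_mul_right _ (by omega)
      omega

theorem mul_g_le (m : ℕ) : 1 ≤ m → m ≠ 2 → ∀ n, m * g n ≤ g (n + m) := by
  induction m using Nat.strong_induction_on with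
  | _ m ih =>
    intro hm h2 n
    by_cases h : m ≤ 5
    · interval_cases m
      · exact g_step 1 1 (by decide) n
      · exact absurd rfl h2
      · exact g_step 3 3 (by decide) n
      · exact g_step 4 4 (by decide) n
      · exact g_step 5 5 (by decide) n
    · obtain ⟨k, rfl⟩ : ∃ k, m = k + 3 := ⟨m - 3, by omega⟩
      have := ih k (by omega) (by omega) (by omega) n
      have h3 := g_step 3 3 (by decide) (n + k)
      rw [← add_assoc]
      have h2 : (k + 3) * g n ≤ 3 * (k * g n) := by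
        rw [← mul_assoc]; exact Nat.mul_le_mul_right _ (by omega)
      omega

theorem g_le_two (n : ℕ) : g n ≤ g (n + 2) := by
  simpa using g_step 1 2 (by decide) n

theorem g_lt_two (n : ℕ) (h : 1 ≤ n) : g n < g (n + 2) := by
  simpa using g_step' 1 2 (fun n => 1 ≤ n) (fun n hn _ => by omega) (by decide) n h

/-- The equality case. -/
theorem eq_of_g_le {m n : ℕ} (hm : 1 ≤ m) (h2 : m ≠ 2) (h6 : 6 ≤ n + m)
    (h : g (n + m) ≤ m * g n) : m = 3 ∨ (m = 4 ∧ ¬ 3 ∣ n + m) := by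
  by_cases h5 : m ≤ 5
  · interval_cases m
    · exact absurd h (not_le.mpr
        (g_step' 1 1 (fun n => 2 ≤ n) (fun n hn _ => by omega) (by decide) n (by omega)))
    · exact absurd rfl h2
    · exact Or.inl rfl
    · exact Or.inr ⟨rfl, fun hd => absurd h (not_le.mpr
        (g_step' 4 4 (fun n => 3 ∣ n + 4) (fun n hn _ => by omega) (by decide) n hd))⟩
    · exact absurd h (not_le.mpr
        (g_step' 5 5 (fun n => 1 ≤ n) (fun n hn _ => by omega) (by decide) n (by omega)))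
  · exfalso
    obtain ⟨k, rfl⟩ : ∃ k, m = k + 3 := ⟨m - 3, by omega⟩
    have := mul_g_le k (by omega) (by omega) n
    have h3 := g_step 3 3 (by decide) (n + k)
    rw [← add_assoc] at h
    have h2 : (k + 3) * g n < 3 * (k * g n) := by
      rw [← mul_assoc]; exact Nat.mul_lt_mul_of_pos_right (by omega) (g_pos n)
    omega

theorem f_lt (n : ℕ) : 3 ≤ n → f n < 2 * g n := by
  refine ind3 (P := fun n => 3 ≤ n → f n < 2 * g n) (by decide) (fun n hn ih _ => ?_) n
  rw [f_add (by omega), g_add hn]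
  have := ih (by omega)
  omega

theorem f_le (n : ℕ) : f n ≤ 2 * g n := by
  by_cases h : 3 ≤ n
  · exact (f_lt n h).le
  · have : n < 3 := by omega
    interval_cases n <;> decide

theorem f_val (k : ℕ) (hk : 1 ≤ k) :
    f (3 * k) = 3 ^ k ∧ f (3 * k + 1) = 4 * 3 ^ (k - 1) ∧ f (3 * k + 2) = 2 * 3 ^ k := by
  induction k, hk using Nat.le_induction with
  | base => decide
  | succ k hk ih =>
    obtain ⟨h0, h1, h2⟩ := ih
    obtain ⟨j, rfl⟩ : ∃ j, k = j + 1 := ⟨k - 1, by omega⟩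
    refine ⟨?_, ?_, ?_⟩
    · rw [show 3 * (j + 1 + 1) = 3 * (j + 1) + 3 by ring, f_add (by omega), h0]; ring
    · rw [show 3 * (j + 1 + 1) + 1 = 3 * (j + 1) + 1 + 3 by ring, f_add (by omega), h1]
      simp only [Nat.add_sub_cancel]; ring
    · rw [show 3 * (j + 1 + 1) + 2 = 3 * (j + 1) + 2 + 3 by ring, f_add (by omega), h2]; ring

theorem g_val (k : ℕ) (hk : 2 ≤ k) :
    g (3 * k) = 3 ^ k ∧ g (3 * k + 1) = 4 * 3 ^ (k - 1) ∧ g (3 * k + 2) = 16 * 3 ^ (k - 2) := by
  induction k, hk using Nat.le_induction with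
  | base => decide
  | succ k hk ih =>
    obtain ⟨h0, h1, h2⟩ := ih
    obtain ⟨j, rfl⟩ : ∃ j, k = j + 2 := ⟨k - 2, by omega⟩
    refine ⟨?_, ?_, ?_⟩
    · rw [show 3 * (j + 2 + 1) = 3 * (j + 2) + 3 by ring, g_add (by omega), h0]; ring
    · rw [show 3 * (j + 2 + 1) + 1 = 3 * (j + 2) + 1 + 3 by ring, g_add (by omega), h1]
      rw [show j + 2 - 1 = j + 1 by omega, show j + 2 + 1 - 1 = j + 2 by omega]; ring
    · rw [show 3 * (j + 2 + 1) + 2 = 3 * (j + 2) + 2 + 3 by ring, g_add (by omega), h2]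
      rw [show j + 2 - 2 = j by omega, show j + 2 + 1 - 2 = j + 1 by omega]; ring

end Cfsg.Agent.SymN
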