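import Cfsg.Agent.SymN.Split
import Cfsg.Agent.SymN.AbNum

/-! The largest abelian subgroups of `S_n` and `A_n`. -/

set_option autoImplicit false

namespace Cfsg.Agent.SymN

open Equiv Equiv.Perm Subgroup Pointwise

/-- An abelian group acts regularly on each orbit. -/
theorem card_res_orbit_le {α : Type*} [Fintype α] [DecidableEq α] (A : Subgroup (Perm α))
    [IsMulCommutative A] (x : α) [DecidablePred fun y => y ∈ MulAction.orbit A x] :
    Nat.card (res (inv_orbit A x)).range ≤ Fintype.card {y // y ∈ MulAction.orbit A x} := by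
  rw [← Nat.card_eq_fintype_card]
  refine Nat.card_le_card_of_injective
    (fun r => (r : Perm {y // y ∈ MulAction.orbit A x}) ⟨x, MulAction.mem_orbit_self x⟩) ?_
  rintro ⟨_, a, rfl⟩ ⟨_, b, rfl⟩ h
  have h' : (a : Perm α) x = (b : Perm α) x := congrArg Subtype.val h
  refine Subtype.ext (Equiv.ext ?_)
  rintro ⟨_, c, rfl⟩
  refine Subtype.ext ?_
  show (a : Perm α) ((c : Perm α) x) = (b : Perm α) ((c : Perm α) x)
  have e1 : ∀ d : A, (d : Perm α) ((c : Perm α) x) = (c : Perm α) ((d : Perm α) x) := fun d =>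
    congrArg (fun s : A => (s : Perm α) x) (mul_comm' d c)
  rw [e1, e1, h']

theorem card_orbit_pos {α : Type*} [Fintype α] (A : Subgroup (Perm α)) (x : α)
    [DecidablePred fun y => y ∈ MulAction.orbit A x] :
    1 ≤ Fintype.card {y // y ∈ MulAction.orbit A x} :=
  Fintype.card_pos_iff.mpr ⟨⟨x, MulAction.mem_orbit_self x⟩⟩

theorem card_le_one_of_isEmpty {α : Type*} [Fintype α] (h : Fintype.card α = 0)
    (A : Subgroup (Perm α)) : Nat.card A ≤ 1 := by
  have := Fintype.card_eq_zero_iff.mp h
  have : Subsingleton (Perm α) := ⟨fun a b => Equiv.ext fun x => isEmptyElim x⟩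
  exact Finite.card_le_one_iff_subsingleton.mpr inferInstance

theorem le_alt {α : Type*} [Fintype α] [DecidableEq α] {A : Subgroup (Perm α)} (h : Even' A) :
    A ≤ alternatingGroup α := h

theorem ab_le_f (n : ℕ) : ∀ (α : Type) [Fintype α] [DecidableEq α], Fintype.card α = n →
    ∀ A : Subgroup (Perm α), IsMulCommutative A → Nat.card A ≤ f n := by
  induction n using Nat.strong_induction_on with
  | _ n ih =>
    intro α _ _ hn A hA
    classical
    rcases Nat.eq_zero_or_pos n with rfl | hpos
    · exact card_le_one_of_isEmpty hn A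
    obtain ⟨x⟩ : Nonempty α := Fintype.card_pos_iff.mp (hn ▸ hpos)
    have h1 := card_res_orbit_le A x
    have h2 := card_orbit_pos A x
    have h3 := card_add (fun y => y ∈ MulAction.orbit A x)
    have h4 := ih _ (by omega) _ rfl (res (inv_orbit A x).not).range inferInstance
    refine (card_le_mul (inv_orbit A x)).trans ((Nat.mul_le_mul h1 h4).trans ?_)
    rw [← hn, ← h3, add_comm]
    exact mul_f_le _ h2 _

theorem card_le_one_of_two {α : Type*} [Fintype α] [DecidableEq α] (h : Fintype.card α = 2)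
    {A : Subgroup (Perm α)} (hA : Even' A) : Nat.card A ≤ 1 := by
  have h1 := two_mul_card_alt h.ge
  have h2 := card_le_of_le (le_alt hA)
  rw [h] at h1
  simp only [Nat.factorial] at h1
  omega

theorem ab_le_g (n : ℕ) : ∀ (α : Type) [Fintype α] [DecidableEq α], Fintype.card α = n →
    ∀ A : Subgroup (Perm α), IsMulCommutative A → Even' A → Nat.card A ≤ g n := by
  induction n using Nat.strong_induction_on with
  | _ n ih =>
    intro α _ _ hn A hA hE
    classical
    rcases Nat.eq_zero_or_pos n with rfl | hpos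
    · exact card_le_one_of_isEmpty hn A
    obtain ⟨x⟩ : Nonempty α := Fintype.card_pos_iff.mp (hn ▸ hpos)
    have h1 := card_res_orbit_le A x
    have h2 := card_orbit_pos A x
    have h3 := card_add (fun y => y ∈ MulAction.orbit A x)
    rcases split_even (inv_orbit A x) hE with ⟨e1, e2⟩ | h
    · have h4 := ih _ (by omega) _ rfl (res (inv_orbit A x).not).range inferInstance e2
      refine (card_le_mul (inv_orbit A x)).trans ?_
      rw [← hn, ← h3, add_comm]
      by_cases h5 : Fintype.card {y // y ∈ MulAction.orbit A x} = 2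
      · refine (Nat.mul_le_mul (card_le_one_of_two h5 e1) h4).trans ?_
        rw [h5, one_mul]
        exact g_le_two _
      · exact (Nat.mul_le_mul h1 h4).trans (mul_g_le _ h2 h5 _)
    · have h4 := ab_le_f _ _ rfl (res (inv_orbit A x).not).range inferInstance
      have h5 := (Nat.mul_le_mul h1 h4).trans (mul_f_le _ h2 _)
      rw [add_comm, h3, hn] at h5
      have := f_le n
      omega

/-- Orbits of a largest abelian subgroup of `A_n`, `n ≥ 6`. -/
theorem orbit_card {α : Type} [Fintype α] [DecidableEq α] (h6 : 6 ≤ Fintype.card α)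
    (A : Subgroup (Perm α)) [IsMulCommutative A] (hE : Even' A)
    (hc : Nat.card A = g (Fintype.card α)) (x : α)
    [DecidablePred fun y => y ∈ MulAction.orbit A x] :
    Fintype.card {y // y ∈ MulAction.orbit A x} = 3 ∨
      (Fintype.card {y // y ∈ MulAction.orbit A x} = 4 ∧ ¬ 3 ∣ Fintype.card α) := by
  have h1 := card_res_orbit_le A x
  have h2 := card_orbit_pos A x
  have h3 := card_add (fun y => y ∈ MulAction.orbit A x)
  rcases split_even (inv_orbit A x) hE with ⟨e1, e2⟩ | h
  · have h4 := ab_le_g _ _ rfl (res (inv_orbit A x).not).range inferInstance e2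
    have h6' := card_le_mul (inv_orbit A x)
    rw [hc, ← h3, add_comm] at h6'
    by_cases h5 : Fintype.card {y // y ∈ MulAction.orbit A x} = 2
    · exfalso
      have := h6'.trans (Nat.mul_le_mul (card_le_one_of_two h5 e1) h4)
      rw [h5, one_mul] at this
      exact absurd this (not_le.mpr (g_lt_two _ (by omega)))
    · have := eq_of_g_le h2 h5 (by omega) (h6'.trans (Nat.mul_le_mul h1 h4))
      rwa [add_comm, h3] at this
  · exfalso
    have h4 := ab_le_f _ _ rfl (res (inv_orbit A x).not).range inferInstance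
    have h5 := (Nat.mul_le_mul h1 h4).trans (mul_f_le _ h2 _)
    rw [add_comm, h3] at h5
    have := f_lt (Fintype.card α) (by omega)
    omega

theorem exists_inv {α : Type} [Fintype α] [DecidableEq α] (h6 : 6 ≤ Fintype.card α)
    (A : Subgroup (Perm α)) [IsMulCommutative A] (hE : Even' A)
    (hc : Nat.card A = g (Fintype.card α)) :
    ∃ p : α → Prop, Inv A p ∧ Nat.card {y // p y} = if 3 ∣ Fintype.card α then 3 else 4 := by
  classical
  split_ifs with h3
  · obtain ⟨x⟩ : Nonempty α := Fintype.card_pos_iff.mp (by omega)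
    refine ⟨_, inv_orbit A x, ?_⟩
    rw [Nat.card_eq_fintype_card]
    exact (orbit_card h6 A hE hc x).resolve_right fun h => h.2 h3
  · by_contra hne
    apply h3
    rw [Fintype.card_congr (MulAction.selfEquivSigmaOrbits' A α), Fintype.card_sigma]
    refine Finset.dvd_sum fun ω _ => ?_
    induction ω using Quotient.inductionOn' with
    | h x =>
      rcases orbit_card h6 A hE hc x with h | h
      · rw [← h]
        exact dvd_of_eq (Fintype.card_congr (Equiv.refl _))
      · exact absurd ⟨_, inv_orbit A x, by rw [Nat.card_eq_fintype_card]; exact h.1⟩ hne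

theorem ab_split {α : Type} [Fintype α] [DecidableEq α] (h6 : 6 ≤ Fintype.card α)
    (A : Subgroup (Perm α)) [IsMulCommutative A] (hE : Even' A)
    (hc : Nat.card A = g (Fintype.card α)) {p : α → Prop} [DecidablePred p] (h : Inv A p)
    (hm : Fintype.card {y // p y} = 3 ∨ Fintype.card {y // p y} = 4) :
    Even' (res h).range ∧ Even' (res h.not).range ∧
      Nat.card (res h).range = g (Fintype.card {y // p y}) ∧
      Nat.card (res h.not).range = g (Fintype.card {y // ¬ p y}) ∧
      A = prodSub p (res h).range (res h.not).range := by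
  have h3 := card_add p
  have hf : f (Fintype.card {y // p y}) = Fintype.card {y // p y} := by
    rcases hm with e | e <;> rw [e] <;> rfl
  have hg : g (Fintype.card {y // p y}) = Fintype.card {y // p y} := by
    rcases hm with e | e <;> rw [e] <;> rfl
  rcases split_even h hE with ⟨e1, e2⟩ | h'
  · have h1 := ab_le_g _ _ rfl (res h).range inferInstance e1
    have h4 := ab_le_g _ _ rfl (res h.not).range inferInstance e2
    have h5 := card_le_mul h
    have h7 := mul_g_le (Fintype.card {y // p y}) (by omega) (by omega)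
      (Fintype.card {y // ¬ p y})
    rw [add_comm, h3, ← hc] at h7
    replace h7 : g (Fintype.card {y // p y}) * g (Fintype.card {y // ¬ p y}) ≤ Nat.card A := by
      rwa [hg]
    have h8 := Nat.mul_le_mul h1 h4
    have p1 := g_pos (Fintype.card {y // p y})
    have p2 := g_pos (Fintype.card {y // ¬ p y})
    refine ⟨e1, e2, ?_, ?_, eq_prodSub h (h8.trans h7)⟩
    · by_contra hne
      have := Nat.mul_lt_mul_of_lt_of_le (lt_of_le_of_ne h1 hne) h4 p2
      omega
    · by_contra hne
      have := Nat.mul_lt_mul_of_le_of_lt h1 (lt_of_le_of_ne h4 hne) p1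
      omega
  · exfalso
    have h1 := ab_le_f _ _ rfl (res h).range inferInstance
    have h4 := ab_le_f _ _ rfl (res h.not).range inferInstance
    rw [hf] at h1
    have h5 := (Nat.mul_le_mul h1 h4).trans (mul_f_le _ (by omega) _)
    rw [add_comm, h3] at h5
    have := f_lt (Fintype.card α) (by omega)
    omega

theorem exists_even_map {α : Type*} [Fintype α] [DecidableEq α] (p q : α → Prop)
    (h : Nat.card {y // p y} = Nat.card {y // q y}) (h2 : 2 ≤ Nat.card {y // p y}) :
    ∃ s : Perm α, sign s = 1 ∧ ∀ z, q (s z) ↔ p z := by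
  classical
  obtain ⟨e⟩ := Finite.card_eq.mp h
  have he : ∀ z, q (e.extendSubtype z) ↔ p z := fun z =>
    ⟨fun hq => by_contra fun hz => e.extendSubtype_not_mem z hz hq, e.extendSubtype_mem z⟩
  rcases Int.units_eq_one_or (sign e.extendSubtype) with hs | hs
  · exact ⟨_, hs, he⟩
  · have : Nontrivial {y // p y} := Finite.one_lt_card_iff_nontrivial.mp h2
    obtain ⟨a, b, hab⟩ := exists_pair_ne {y // p y}
    refine ⟨e.extendSubtype * swap a.1 b.1, ?_, fun z => ?_⟩
    · rw [Perm.sign_mul, hs, sign_swap (fun e => hab (Subtype.ext e))]; simp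
    · rw [Perm.mul_apply, he]
      by_cases ha : z = a.1
      · rw [ha, swap_apply_left]; exact iff_of_true b.2 a.2
      · by_cases hb : z = b.1
        · rw [hb, swap_apply_right]; exact iff_of_true a.2 b.2
        · rw [swap_apply_of_ne_of_ne ha hb]

theorem prodSub_conj {α : Type*} (p : α → Prop) [DecidablePred p]
    (A : Subgroup (Perm {x // p x})) (B : Subgroup (Perm {x // ¬ p x})) (s : Perm {x // p x})
    (t : Perm {x // ¬ p x}) :
    prodSub p (MulAut.conj s • A) (MulAut.conj t • B) =
      MulAut.conj (subtypeCongrHom p (s, t)) • prodSub p A B := by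
  ext x
  constructor
  · rintro ⟨⟨_, _⟩, ⟨⟨a, ha, rfl⟩, ⟨b, hb, rfl⟩⟩, rfl⟩
    refine ⟨subtypeCongrHom p (a, b), ⟨(a, b), ⟨ha, hb⟩, rfl⟩, ?_⟩
    show subtypeCongrHom p (s, t) * subtypeCongrHom p (a, b) * (subtypeCongrHom p (s, t))⁻¹ = _
    rw [← map_inv, ← map_mul, ← map_mul]; rfl
  · rintro ⟨_, ⟨⟨a, b⟩, ⟨ha, hb⟩, rfl⟩, rfl⟩
    refine ⟨(s * a * s⁻¹, t * b * t⁻¹), ⟨⟨a, ha, rfl⟩, ⟨b, hb, rfl⟩⟩, ?_⟩
    show _ = subtypeCongrHom p (s, t) * subtypeCongrHom p (a, b) * (subtypeCongrHom p (s, t))⁻¹
    rw [← map_inv, ← map_mul, ← map_mul]; rfl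

/-- Conjugacy inside `alternatingGroup` read in the symmetric group. -/
theorem conj_of_alt {α : Type*} [Fintype α] [DecidableEq α] {A B : Subgroup (Perm α)}
    (hA : Even' A) (hB : Even' B) (s : alternatingGroup α)
    (h : B.subgroupOf (alternatingGroup α) = MulAut.conj s • A.subgroupOf (alternatingGroup α)) :
    B = MulAut.conj (s : Perm α) • A := by
  ext x
  constructor
  · intro hx
    have : (⟨x, hB x hx⟩ : alternatingGroup α) ∈ B.subgroupOf (alternatingGroup α) := hx
    rw [h] at this
    obtain ⟨y, hy, e⟩ := this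
    exact ⟨y, hy, congrArg Subtype.val e⟩
  · rintro ⟨y, hy, rfl⟩
    have : MulAut.conj s (⟨y, hA y hy⟩ : alternatingGroup α) ∈
        B.subgroupOf (alternatingGroup α) := by
      rw [h]; exact ⟨_, hy, rfl⟩
    exact this

theorem sylow_conj {α : Type*} [Fintype α] [DecidableEq α] {A B : Subgroup (Perm α)}
    (hA : Even' A) (hB : Even' B) (p k r : ℕ) [Fact p.Prime] (cA : Nat.card A = p ^ k)
    (cB : Nat.card B = p ^ k) (hr : Nat.card (alternatingGroup α) = p ^ k * r) (hp : ¬ p ∣ r) :
    ∃ s : Perm α, sign s = 1 ∧ B = MulAut.conj s • A := by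
  have key : ∀ C : Subgroup (Perm α), Even' C → Nat.card C = p ^ k →
      ∃ P : Sylow p (alternatingGroup α), (P : Subgroup (alternatingGroup α)) =
        C.subgroupOf (alternatingGroup α) := by
    intro C hC cC
    have h1 : Nat.card (C.subgroupOf (alternatingGroup α)) = p ^ k := by
      rw [← cC]; exact Nat.card_congr (subgroupOfEquivOfLe (le_alt hC)).toEquiv
    refine ⟨(IsPGroup.of_card h1).toSylow ?_, rfl⟩
    have h2 := (C.subgroupOf (alternatingGroup α)).card_mul_index
    rw [h1, hr] at h2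
    rw [Nat.eq_of_mul_eq_mul_left (pow_pos (Fact.out : p.Prime).pos k) h2]
    exact hp
  obtain ⟨P, hP⟩ := key A hA cA
  obtain ⟨Q, hQ⟩ := key B hB cB
  obtain ⟨s, hs⟩ := MulAction.exists_smul_eq (alternatingGroup α) P Q
  refine ⟨s, s.2, conj_of_alt hA hB s ?_⟩
  rw [← hP, ← hQ, ← hs]; rfl

theorem ab_conj (n : ℕ) : ∀ (α : Type) [Fintype α] [DecidableEq α], Fintype.card α = n →
    ∀ A B : Subgroup (Perm α), IsMulCommutative A → IsMulCommutative B → Even' A → Even' B →
      Nat.card A = g n → Nat.card B = g n → ∃ s : Perm α, sign s = 1 ∧ B = MulAut.conj s • A := by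
  induction n using Nat.strong_induction_on with
  | _ n ih =>
    intro α _ _ hn A B hA hB eA eB cA cB
    classical
    by_cases h2 : n ≤ 2
    · have h1 : g n = 1 := by interval_cases n <;> rfl
      rw [h1, card_eq_one] at cA cB
      exact ⟨1, Perm.sign_one, by rw [cA, cB, smul_bot]⟩
    by_cases h5 : n ≤ 5
    · have h3 := two_mul_card_alt (α := α) (by omega)
      rw [hn] at h3
      have : Fact (Nat.Prime 5) := ⟨by norm_num⟩
      have : n = 3 ∨ n = 4 ∨ n = 5 := by omega
      rcases this with rfl | rfl | rfl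
      · exact sylow_conj eA eB 3 1 1 cA cB (by simp only [Nat.factorial] at h3; omega) (by decide)
      · exact sylow_conj eA eB 2 2 3 cA cB (by simp only [Nat.factorial] at h3; omega) (by decide)
      · exact sylow_conj eA eB 5 1 12 cA cB (by simp only [Nat.factorial] at h3; omega) (by decide)
    subst hn
    obtain ⟨p, hp, cp⟩ := exists_inv (by omega) A eA cA
    obtain ⟨q, hq, cq⟩ := exists_inv (by omega) B eB cB
    have hm : Fintype.card {y // q y} = 3 ∨ Fintype.card {y // q y} = 4 := by
      rw [← Nat.card_eq_fintype_card, cq]; split_ifs <;> simp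
    obtain ⟨s, hs, hsq⟩ := exists_even_map p q (cp.trans cq.symm) (by rw [cp]; split_ifs <;> simp)
    have hA' : IsMulCommutative (MulAut.conj s • A : Subgroup (Perm α)) :=
      map_isMulCommutative A _
    have eA' : Even' (MulAut.conj s • A) := by
      rintro _ ⟨a, ha, rfl⟩
      show sign (s * a * s⁻¹) = 1
      rw [Perm.sign_mul, Perm.sign_mul, sign_inv, hs, eA a ha]; simp
    have cA' : Nat.card (MulAut.conj s • A : Subgroup (Perm α)) = g (Fintype.card α) := by
      rw [← cA]; exact card_map_of_injective (MulAut.conj s).injective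
    have iA' : Inv (MulAut.conj s • A) q := by
      rintro _ ⟨a, ha, rfl⟩ z
      show q (s (a (s⁻¹ z))) ↔ q z
      rw [hsq, hp a ha, ← hsq]; simp
    obtain ⟨a1, a2, a3, a4, a5⟩ := ab_split (by omega) _ eA' cA' iA' hm
    obtain ⟨b1, b2, b3, b4, b5⟩ := ab_split (by omega) _ eB cB hq hm
    have h3 := card_add q
    obtain ⟨s1, hs1, e1⟩ := ih _ (by omega) _ rfl _ _ inferInstance inferInstance a1 b1 a3 b3
    obtain ⟨s2, hs2, e2⟩ := ih _ (by omega) _ rfl _ _ inferInstance inferInstance a2 b2 a4 b4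
    refine ⟨subtypeCongrHom q (s1, s2) * s, ?_, ?_⟩
    · rw [Perm.sign_mul, hs, mul_one]
      show sign (Perm.subtypeCongr s1 s2) = 1
      rw [sign_subtypeCongr, hs1, hs2, mul_one]
    · rw [map_mul, mul_smul, a5, ← prodSub_conj, ← e1, ← e2]
      exact b5

/-- Existence. -/
def Ab (ev : Prop) (n c : ℕ) : Prop :=
  ∃ A : Subgroup (Perm (Fin n)), IsMulCommutative A ∧ Nat.card A = c ∧ (ev → Even' A)

theorem Ab.add {ev : Prop} {a b c d : ℕ} (h1 : Ab ev a c) (h2 : Ab ev b d) :
    Ab ev (a + b) (c * d) := by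
  obtain ⟨A, hA, rfl, eA⟩ := h1
  obtain ⟨B, hB, rfl, eB⟩ := h2
  refine ⟨(A.prod B).map (sumHom a b), ?_, ?_, fun h => ?_⟩
  · have : IsMulCommutative (A.prod B) := IsMulCommutative.of_setLike_mul_comm
      fun x hx y hy => Prod.ext (setLike_mul_comm hx.1 hy.1) (setLike_mul_comm hx.2 hy.2)
    infer_instance
  · rw [card_map_of_injective (sumHom_injective a b), ← Nat.card_prod]
    exact Nat.card_congr (prodEquiv A B).toEquiv
  · rintro _ ⟨x, hx, rfl⟩
    rw [sign_sumHom, eA h _ hx.1, eB h _ hx.2, mul_one]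

theorem ab_one (ev : Prop) (n : ℕ) : Ab ev n 1 :=
  ⟨⊥, inferInstance, card_bot, fun _ x hx => by rw [mem_bot.mp hx, Perm.sign_one]⟩

theorem ab_pow (ev : Prop) (n p k : ℕ) [Fact p.Prime] (h2 : 2 ≤ n) (hk : k = 1 ∨ k = 2)
    (h : 2 * p ^ k ∣ n.factorial) : Ab ev n (p ^ k) := by
  have h3 := two_mul_card_alt (α := Fin n) (by simpa using h2)
  rw [Fintype.card_fin] at h3
  rw [← h3] at h
  obtain ⟨K, hK⟩ := Sylow.exists_subgroup_card_pow_prime p (Nat.dvd_of_mul_dvd_mul_left two_pos h)
  have : IsMulCommutative K := by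
    rcases hk with rfl | rfl
    · exact (isCyclic_of_prime_card (hK.trans (pow_one p))).isMulCommutative
    · exact IsPGroup.isMulCommutative_of_card_eq_prime_sq hK
  exact ⟨K.map (alternatingGroup _).subtype, inferInstance, (card_map_alt K).trans hK,
    fun _ => even_map K⟩

theorem ab3 (ev : Prop) : Ab ev 3 3 := ab_pow ev 3 3 1 (by decide) (by decide) (by decide)
theorem ab4 (ev : Prop) : Ab ev 4 4 := ab_pow ev 4 2 2 (by decide) (by decide) (by decide)
theorem ab5 (ev : Prop) : Ab ev 5 5 :=
  haveI : Fact (Nat.Prime 5) := ⟨by norm_num⟩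
  ab_pow ev 5 5 1 (by decide) (by decide) (by decide)

theorem ab2 : Ab False 2 2 := by
  have h : Nat.card (⊤ : Subgroup (Perm (Fin 2))) = 2 := by
    rw [card_top, Nat.card_perm]; simp
  exact ⟨⊤, (isCyclic_of_prime_card h).isMulCommutative, h, False.elim⟩

theorem ab_g : ∀ n, Ab True n (g n) := by
  refine ind3 (fun n hn => ?_) fun n hn ih => ?_
  · interval_cases n
    exacts [ab_one _ _, ab_one _ _, ab_one _ _, ab3 _, ab4 _, ab5 _, (ab3 _).add (ab3 _),
      (ab4 _).add (ab3 _), (ab4 _).add (ab4 _)]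
  · rw [g_add hn, mul_comm]; exact ih.add (ab3 _)

theorem ab_f : ∀ n, Ab False n (f n) := by
  refine ind3 (fun n hn => ?_) fun n hn ih => ?_
  · interval_cases n
    exacts [ab_one _ _, ab_one _ _, ab2, ab3 _, ab4 _, ab2.add (ab3 _), (ab3 _).add (ab3 _),
      (ab4 _).add (ab3 _), (ab2.add (ab3 _)).add (ab3 _)]
  · rw [f_add (by omega), mul_comm]; exact ih.add (ab3 _)

theorem isGreatest_f (n : ℕ) : IsGreatest
    {c : ℕ | ∃ A : Subgroup (Perm (Fin n)), IsMulCommutative A ∧ Nat.card A = c} (f n) := by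
  obtain ⟨A, hA, cA, -⟩ := ab_f n
  refine ⟨⟨A, hA, cA⟩, ?_⟩
  rintro _ ⟨B, hB, rfl⟩
  exact ab_le_f n _ (Fintype.card_fin n) B hB

theorem isGreatest_g (n : ℕ) : IsGreatest
    {c : ℕ | ∃ A : Subgroup (alternatingGroup (Fin n)), IsMulCommutative A ∧ Nat.card A = c}
      (g n) := by
  obtain ⟨A, hA, cA, eA⟩ := ab_g n
  refine ⟨⟨A.subgroupOf _, inferInstance, ?_⟩, ?_⟩
  · rw [← cA]; exact Nat.card_congr (subgroupOfEquivOfLe (le_alt (eA trivial))).toEquiv
  · rintro _ ⟨B, hB, rfl⟩
    rw [← card_map_alt]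
    exact ab_le_g n _ (Fintype.card_fin n) _ inferInstance (even_map B)

/-- Conjugacy read back in the alternating group. -/
theorem alt_conj {α : Type*} [Fintype α] [DecidableEq α] {A B : Subgroup (alternatingGroup α)}
    {s : Perm α} (hs : sign s = 1) (h : B.map (alternatingGroup α).subtype =
      MulAut.conj s • A.map (alternatingGroup α).subtype) :
    B = MulAut.conj (⟨s, hs⟩ : alternatingGroup α) • A := by
  apply map_injective (subtype_injective (alternatingGroup α))
  rw [h]
  ext x
  constructor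
  · rintro ⟨_, ⟨a, ha, rfl⟩, rfl⟩
    exact ⟨_, ⟨a, ha, rfl⟩, rfl⟩
  · rintro ⟨_, ⟨a, ha, rfl⟩, rfl⟩
    exact ⟨_, ⟨a, ha, rfl⟩, rfl⟩

end Cfsg.Agent.SymN
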