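import Mathlib.GroupTheory.SpecificGroups.Alternating
import Mathlib.GroupTheory.Sylow
import Mathlib.GroupTheory.Nilpotent

/-! Splitting a permutation group along an invariant predicate; order bounds. -/

set_option autoImplicit false

namespace Cfsg.Agent.SymN

open Equiv Equiv.Perm Subgroup

variable {α : Type*}

/-- `p` is invariant under `N`. -/
def Inv (N : Subgroup (Perm α)) (p : α → Prop) : Prop := ∀ g ∈ N, ∀ x, p (g x) ↔ p x

theorem Inv.not {N : Subgroup (Perm α)} {p : α → Prop} (h : Inv N p) : Inv N (fun x => ¬ p x) :=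
  fun g hg x => not_congr (h g hg x)

/-- Restriction to an invariant subtype. -/
def res {N : Subgroup (Perm α)} {p : α → Prop} (h : Inv N p) : N →* Perm {x // p x} where
  toFun g := (g : Perm α).subtypePerm (h g g.2)
  map_one' := by ext; simp
  map_mul' g k := by ext; rfl

@[simp] theorem res_apply {N : Subgroup (Perm α)} {p : α → Prop} (h : Inv N p) (g : N)
    (x : {x // p x}) : ((res h g x : {x // p x}) : α) = (g : Perm α) x := rfl

theorem congr_res {N : Subgroup (Perm α)} {p : α → Prop} [DecidablePred p] (h : Inv N p) (g : N) :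
    Perm.subtypeCongr (res h g) (res h.not g) = g := by
  ext x
  by_cases hx : p x
  · rw [subtypeCongr.left_apply _ _ hx]; rfl
  · rw [subtypeCongr.right_apply _ _ hx]; rfl

/-- All elements are even. -/
def Even' [Fintype α] [DecidableEq α] (N : Subgroup (Perm α)) : Prop := ∀ g ∈ N, sign g = 1

/-- The product subgroup. -/
def prodSub (p : α → Prop) [DecidablePred p] (A : Subgroup (Perm {x // p x}))
    (B : Subgroup (Perm {x // ¬ p x})) : Subgroup (Perm α) :=
  (A.prod B).map (subtypeCongrHom p)

theorem card_prodSub (p : α → Prop) [DecidablePred p] (A : Subgroup (Perm {x // p x}))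
    (B : Subgroup (Perm {x // ¬ p x})) : Nat.card (prodSub p A B) = Nat.card A * Nat.card B := by
  rw [prodSub, card_map_of_injective (subtypeCongrHom_injective p), ← Nat.card_prod]
  exact Nat.card_congr (prodEquiv A B).toEquiv

theorem le_prodSub {N : Subgroup (Perm α)} {p : α → Prop} [DecidablePred p] (h : Inv N p) :
    N ≤ prodSub p (res h).range (res h.not).range := fun g hg =>
  ⟨(res h ⟨g, hg⟩, res h.not ⟨g, hg⟩), ⟨⟨_, rfl⟩, ⟨_, rfl⟩⟩, congr_res h ⟨g, hg⟩⟩

theorem card_le_mul [Finite α] {N : Subgroup (Perm α)} {p : α → Prop} (h : Inv N p) :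
    Nat.card N ≤ Nat.card (res h).range * Nat.card (res h.not).range := by
  classical
  rw [← card_prodSub]
  exact card_le_of_le (le_prodSub h)

theorem eq_prodSub [Finite α] {N : Subgroup (Perm α)} {p : α → Prop} [DecidablePred p]
    (h : Inv N p) (hc : Nat.card (res h).range * Nat.card (res h.not).range ≤ Nat.card N) :
    N = prodSub p (res h).range (res h.not).range :=
  eq_of_le_of_card_ge (le_prodSub h) (by rwa [card_prodSub])

/-- An even subgroup of a group containing an odd permutation has index at least two. -/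
theorem two_mul_card_le [Fintype α] [DecidableEq α] {N M : Subgroup (Perm α)} (hle : N ≤ M)
    (hN : Even' N) (hM : ¬ Even' M) : 2 * Nat.card N ≤ Nat.card M := by
  have hne : N ≠ M := fun e => hM (e ▸ hN)
  obtain ⟨k, hk⟩ := card_dvd_of_le hle
  have hpos : 0 < Nat.card M := Nat.card_pos
  rcases k with _ | _ | k
  · omega
  · exact absurd (eq_of_le_of_card_ge hle (by omega)) hne
  · rw [hk]; nlinarith

theorem sign_res [Fintype α] [DecidableEq α] {N : Subgroup (Perm α)} {p : α → Prop}
    [DecidablePred p] (h : Inv N p) (g : N) :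
    sign (g : Perm α) = sign (res h g) * sign (res h.not g) := by
  conv_lhs => rw [← congr_res h g]
  exact sign_subtypeCongr _ _

/-- Either both restrictions are even, or we gain a factor two. -/
theorem split_even [Fintype α] [DecidableEq α] {N : Subgroup (Perm α)} {p : α → Prop}
    [DecidablePred p] (h : Inv N p) (hN : Even' N) :
    (Even' (res h).range ∧ Even' (res h.not).range) ∨
      2 * Nat.card N ≤ Nat.card (res h).range * Nat.card (res h.not).range := by
  by_cases h1 : Even' (res h).range
  · refine Or.inl ⟨h1, ?_⟩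
    rintro _ ⟨g, rfl⟩
    have := sign_res h g
    rwa [hN g g.2, h1 _ ⟨g, rfl⟩, one_mul, eq_comm] at this
  · right
    rw [← card_prodSub]
    refine two_mul_card_le (le_prodSub h) hN fun hM => h1 fun a ha => ?_
    have := hM _ ⟨(a, 1), ⟨ha, one_mem _⟩, rfl⟩
    simpa [subtypeCongrHom] using this

theorem inv_orbit (N : Subgroup (Perm α)) (x : α) : Inv N (fun y => y ∈ MulAction.orbit N x) := by
  intro g hg y
  constructor
  · intro h
    have := MulAction.mapsTo_smul_orbit (⟨g, hg⟩⁻¹ : N) x h
    obtain ⟨z, hz, e⟩ : ∃ z ∈ MulAction.orbit N x, z = y := ⟨_, MulAction.mem_orbit_of_mem_orbit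
      (⟨g, hg⟩⁻¹ : N) h, by
        show (g⁻¹ : Perm α) (g y) = y
        simp⟩
    exact e ▸ hz
  · intro h
    exact MulAction.mem_orbit_of_mem_orbit (⟨g, hg⟩ : N) h

theorem card_add [Fintype α] (p : α → Prop) [DecidablePred p] :
    Fintype.card {x // p x} + Fintype.card {x // ¬ p x} = Fintype.card α := by
  rw [Fintype.card_subtype_compl]
  have := Fintype.card_subtype_le p
  omega

/-- Juxtaposition of permutations. -/
def sumHom (a b : ℕ) : Perm (Fin a) × Perm (Fin b) →* Perm (Fin (a + b)) :=
  (finSumFinEquiv.permCongrHom : Perm (Fin a ⊕ Fin b) ≃* Perm (Fin (a + b))).toMonoidHom.comp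
    (sumCongrHom _ _)

theorem sumHom_injective (a b : ℕ) : Function.Injective (sumHom a b) :=
  (finSumFinEquiv.permCongrHom : Perm (Fin a ⊕ Fin b) ≃* Perm (Fin (a + b))).injective.comp
    sumCongrHom_injective

theorem sign_sumHom (a b : ℕ) (x : Perm (Fin a) × Perm (Fin b)) :
    sign (sumHom a b x) = sign x.1 * sign x.2 := by
  show sign (finSumFinEquiv.permCongr (Perm.sumCongr x.1 x.2)) = _
  rw [sign_permCongr, sign_sumCongr]

theorem even_map [Fintype α] [DecidableEq α] (N : Subgroup (alternatingGroup α)) :
    Even' (N.map (alternatingGroup α).subtype) := by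
  rintro _ ⟨g, -, rfl⟩
  exact g.2

theorem card_map_alt [Fintype α] [DecidableEq α] (N : Subgroup (alternatingGroup α)) :
    Nat.card (N.map (alternatingGroup α).subtype) = Nat.card N :=
  card_map_of_injective (subtype_injective _)

theorem two_mul_card_alt [Fintype α] [DecidableEq α] (h : 2 ≤ Fintype.card α) :
    2 * Nat.card (alternatingGroup α) = (Fintype.card α).factorial := by
  have : Nontrivial α := Fintype.one_lt_card_iff_nontrivial.mp h
  rw [two_mul_nat_card_alternatingGroup, Nat.card_perm, Nat.card_eq_fintype_card]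

end Cfsg.Agent.SymN
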